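import Cfsg.Agent.H939.L64.Base
import Cfsg.Agent.H955.L64.Irr
import Cfsg.Agent.H179.SLC.Coc_m3
import Cfsg.Prelude.Def_Classical
import Cfsg.Agent.Lib.GenFitting
import Cfsg.Agent.ChevalleyStructure.FieldIso
import Cfsg.Agent.LieClassical.OmegaCenter
import Cfsg.Agent.LieClassical.OmegaReindex
import Cfsg.Agent.S0245
import Cfsg.Agent.S0246
import Cfsg.Agent.S0270
import Cfsg.Agent.S0280
import Cfsg.Agent.S0283
import Cfsg.Agent.S0293
import Cfsg.Agent.S0296
import Cfsg.Agent.S0814
import Cfsg.Agent.S0815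
import Cfsg.Agent.S0817
import Cfsg.Agent.FastGrp
import Cfsg.Agent.Prune
set_option linter.all false

section
prune_inst 0x7f00000000000000000000000000000000000000000000000000000000000000000000000000000000000000000000000000000000000000000000000000000000000000000000000000000000000000003fffffffffffffffffffffffffffbeffbdffffffff

-- part: E82/Defs
section
set_option linter.all false
open scoped Cfsg.Agent.FastGrp

/-!
# S3369: the situation, the rows, stabilisers (helper92)

* `Sit f H` : `H` is maximal in `E₈(2)`, `f` embeds `S` as a normal subgroup of `H` with trivial centraliser;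
* `Fixd f` : the image of `f` fixes a non-zero vector of the adjoint module over the algebraic closure;
* `cf g` : the dimension of the fixed space of `g`;
* `ROW S` : the statement for one group; `Small S`, `Out2 S` : the facts on the automorphism group of `S`.

The end games are in `E82/End.lean`, the assembly in `E82/Asm.lean`, the plan in `notes/E82/plan.md`.
-/

set_option autoImplicit false
set_option maxRecDepth 100000

namespace Cfsg.Agent.E82

open Cfsg Cfsg.Lie
open Cfsg.Agent.H939.L64 (KK E2 LK em aK rE rE_apply rE_mul rE_one rE_inv_self rE_self_inv rEq rEq_apply fixS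
  rE_inj)
open Cfsg.Agent.H943.RepAdd (eig)

/-- the situation -/
structure Sit {S : Type} [Group S] (f : S →* E2) (H : Subgroup E2) : Prop where
  co : IsCoatom H
  inj : Function.Injective f
  le : ∀ s, f s ∈ H
  nor : ∀ h ∈ H, ∃ τ : S ≃* S, ∀ s, f (τ s) = h * f s * h⁻¹
  tri : ∀ g ∈ H, (∀ s, Commute g (f s)) → g = 1

/-- the image fixes a non-zero vector -/
def Fixd {S : Type} [Group S] (f : S →* E2) : Prop := ∃ v : LK, v ≠ 0 ∧ ∀ s, rE (f s) v = v

/-- the dimension of the fixed space -/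
noncomputable def cf (g : E2) : ℕ := Module.finrank KK (eig rE g 1)

/-- the statement for one group -/
def ROW (S : Type) [Group S] : Prop := ∀ (f : S →* E2) (H : Subgroup E2), Sit f H → False

/-- the facts on `S` used in the end games -/
structure Small (S : Type) [Group S] : Prop where
  fin : Finite S
  simple : IsSimpleGroup S
  nonab : ∃ a b : S, a * b ≠ b * a
  h31 : ¬ 31 ∣ Nat.card (MulAut S)
  h127 : ¬ 127 ∣ Nat.card (MulAut S)
  h24 : ¬ 2 ^ 24 ∣ Nat.card (MulAut S)

/-- the outer automorphism group is a `2`-group -/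
def Out2 (S : Type) [Group S] : Prop := ∃ k : ℕ, Nat.card (MulAut S) = Nat.card S * 2 ^ k

/-- `Sp₆(2)` -/
abbrev Sp6 : Type := ↥(Matrix.symplecticGroup (Fin 3) (ZMod 2))

/-- `Sp₈(2)` -/
abbrev Sp8 : Type := ↥(Matrix.symplecticGroup (Fin 4) (ZMod 2))

/-- `Ω₈⁺(2)` -/
abbrev O8 : Type := ↥(Cfsg.Omega (ZMod 2) (Cfsg.quadFormPlus 4 (ZMod 2)))

/-- `Sp₄(4)` -/
abbrev Sp44 (F : Type) [Field F] : Type := ↥(Matrix.symplecticGroup (Fin 2) F)

/-- `U₄(2)` -/
abbrev U42 (F : Type) [Field F] : Type := Cfsg.PSU 4 F 2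

/-- a row may be proved for any model of the group -/
theorem ROW.of_equiv {S S' : Type} [Group S] [Group S'] (e : S ≃* S') (h : ROW S) : ROW S' := by
  intro f H hS
  refine h (f.comp e.toMonoidHom) H ⟨hS.co, hS.inj.comp e.injective, fun s => hS.le _, fun g hg => ?_, fun g hg hc => ?_⟩
  · obtain ⟨τ, hτ⟩ := hS.nor g hg
    refine ⟨(e.trans τ).trans e.symm, fun s => ?_⟩
    show f (e (e.symm (τ (e s)))) = g * f (e s) * g⁻¹
    rw [MulEquiv.apply_symm_apply, hτ]
  · refine hS.tri g hg fun s => ?_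
    have := hc (e.symm s)
    rwa [MonoidHom.comp_apply, MulEquiv.coe_toMonoidHom, MulEquiv.apply_symm_apply] at this

section

variable {S : Type} [Group S] {f : S →* E2} {H : Subgroup E2}

theorem mem_fix {v : LK} : v ∈ fixS (rE.comp f) ↔ ∀ s, rE (f s) v = v := Iff.rfl

/-- the fixed space of the socle is stable under `H` -/
theorem Sit.fix_stable (hS : Sit f H) {h : E2} (hh : h ∈ H) {v : LK} (hv : ∀ s, rE (f s) v = v) (s : S) :
    rE (f s) (rE h v) = rE h v := by
  obtain ⟨τ, hτ⟩ := hS.nor h hh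
  have h1 : f s * h = h * f (τ.symm s) := by
    have := hτ (τ.symm s)
    rw [MulEquiv.apply_symm_apply] at this
    rw [this, inv_mul_cancel_right]
  rw [← rE_mul, h1, rE_mul, hv]

theorem stab_inv {A : Submodule KK LK} {x : E2} (hx : ∀ v ∈ A, rE x v ∈ A) : ∀ v ∈ A, rE x⁻¹ v ∈ A := by
  intro v hv
  have h2 : A.map (rEq x).toLinearMap = A := by
    apply Submodule.eq_of_le_of_finrank_eq
    · rintro _ ⟨w, hw, rfl⟩
      exact hx w hw
    · exact LinearEquiv.finrank_map_eq (rEq x) A
  rw [← h2] at hv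
  obtain ⟨w, hw, rfl⟩ := hv
  show rE x⁻¹ (rE x w) ∈ A
  rw [rE_inv_self]
  exact hw

/-- the stabiliser of a subspace -/
def stabS (A : Submodule KK LK) : Subgroup E2 where
  carrier := {x | ∀ v ∈ A, rE x v ∈ A}
  mul_mem' := fun {a b} ha hb v hv => by rw [rE_mul]; exact ha _ (hb v hv)
  one_mem' := fun v hv => by rw [rE_one]; exact hv
  inv_mem' := fun ha => stab_inv ha

theorem mem_stabS {A : Submodule KK LK} {x : E2} : x ∈ stabS A ↔ ∀ v ∈ A, rE x v ∈ A := Iff.rfl

/-- the stabiliser of a vector -/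
def stabV (v : LK) : Subgroup E2 where
  carrier := {x | rE x v = v}
  mul_mem' := fun {a b} ha hb => by
    show rE (a * b) v = v
    rw [rE_mul, show rE b v = v from hb, show rE a v = v from ha]
  one_mem' := rE_one v
  inv_mem' := fun {a} ha => by
    show rE a⁻¹ v = v
    conv_lhs => rw [← show rE a v = v from ha]
    exact rE_inv_self a v

theorem mem_stabV {v : LK} {x : E2} : x ∈ stabV v ↔ rE x v = v := Iff.rfl

/-- a vector fixed by generators is fixed by the group -/
theorem fix_of_closure {X : Set S} (hX : Subgroup.closure X = ⊤) {v : LK} (h : ∀ x ∈ X, rE (f x) v = v) (s : S) :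
    rE (f s) v = v := by
  have h1 : Subgroup.closure X ≤ (stabV v).comap f := (Subgroup.closure_le _).2 h
  exact h1 (hX ▸ Subgroup.mem_top s)

/-- **the stabiliser of a proper `H`-stable subspace is `H`** -/
theorem Sit.mem_of_stab (hS : Sit f H) {A : Submodule KK LK} (h0 : A ≠ ⊥) (h1 : A ≠ ⊤)
    (hH : ∀ h ∈ H, ∀ v ∈ A, rE h v ∈ A) {g : E2} (hg : ∀ v ∈ A, rE g v ∈ A) : g ∈ H := by
  by_contra hgH
  have h2 : H < stabS A := by
    refine lt_of_le_of_ne hH fun h => hgH ?_
    rw [h]
    exact hg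
  have h3 := hS.co.2 _ h2
  rcases Cfsg.Agent.H955.L64.IRR A (fun x v hv => (by rw [h3]; trivial : x ∈ stabS A) v hv) with h4 | h4
  · exact h0 h4
  · exact h1 h4

/-- **an element which fixes a non-zero `H`-stable subspace pointwise is in `H`** -/
theorem Sit.mem_of_fix (hS : Sit f H) {A : Submodule KK LK} (h0 : A ≠ ⊥) (hH : ∀ h ∈ H, ∀ v ∈ A, rE h v ∈ A) {g : E2}
    (hg : ∀ v ∈ A, rE g v = v) : g ∈ H := by
  by_cases h1 : A = ⊤
  · have h2 : g = 1 := rE_inj fun v => hg v (h1 ▸ Submodule.mem_top)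
    rw [h2]
    exact H.one_mem
  · exact hS.mem_of_stab h0 h1 hH fun v hv => by rw [hg v hv]; exact hv

/-- conjugation -/
theorem Sit.exists_hom (hS : Sit f H) : ∃ φ : ↥H →* MulAut S, Function.Injective φ ∧
    (∀ (h : ↥H) (s : S), f (φ h s) = h * f s * (h : E2)⁻¹) ∧ ∀ s : S, φ ⟨f s, hS.le s⟩ = MulAut.conj s := by
  choose τ hτ using hS.nor
  let φ : ↥H →* MulAut S := MonoidHom.mk' (fun h => τ h.1 h.2) fun a b => by
    ext s
    apply hS.inj
    rw [MulAut.mul_apply, hτ, hτ, hτ, Subgroup.coe_mul]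
    group
  have hφ : ∀ (h : ↥H) (s : S), f (φ h s) = h * f s * (h : E2)⁻¹ := fun h s => hτ h.1 h.2 s
  refine ⟨φ, (injective_iff_map_eq_one φ).2 fun h hh => Subtype.ext (hS.tri h.1 h.2 fun s => ?_), hφ, fun s => ?_⟩
  · have h1 := hφ h s
    rw [hh, MulAut.one_apply] at h1
    show (h : E2) * f s = f s * h
    conv_rhs => rw [h1]
    rw [inv_mul_cancel_right]
  · ext t
    apply hS.inj
    rw [hφ, MulAut.conj_apply, map_mul, map_mul, map_inv]

/-- the order of `H` divides the order of the automorphism group -/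
theorem Sit.card_dvd (hS : Sit f H) : Nat.card ↥H ∣ Nat.card (MulAut S) := by
  obtain ⟨φ, h1, -⟩ := hS.exists_hom
  exact Subgroup.card_dvd_of_injective φ h1

/-- a non-trivial normal subgroup of `H` contains the socle -/
theorem Sit.le_of_normal (hS : Sit f H) [IsSimpleGroup S] {R : Subgroup E2} (h0 : R ≠ ⊥) (hR : R ≤ H)
    (hn : ∀ h ∈ H, ∀ x ∈ R, h * x * h⁻¹ ∈ R) (s : S) : f s ∈ R := by
  have hN : (R.comap f).Normal := ⟨fun n hn' g => by
    rw [Subgroup.mem_comap, map_mul, map_mul, map_inv]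
    exact hn _ (hS.le g) _ hn'⟩
  rcases hN.eq_bot_or_eq_top with h1 | h1
  · exfalso
    apply h0
    rw [eq_bot_iff]
    intro x hx
    rw [Subgroup.mem_bot]
    refine hS.tri x (hR hx) fun t => ?_
    obtain ⟨τ, hτ⟩ := hS.nor x (hR hx)
    have h2 : τ t * t⁻¹ ∈ R.comap f := by
      rw [Subgroup.mem_comap, map_mul, hτ, map_inv]
      have h3 := R.mul_mem hx (hn _ (hS.le t) _ (R.inv_mem hx))
      have e : x * f t * x⁻¹ * (f t)⁻¹ = x * (f t * x⁻¹ * (f t)⁻¹) := by group
      rwa [e]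
    rw [h1, Subgroup.mem_bot, mul_inv_eq_one] at h2
    have h4 := hτ t
    rw [h2] at h4
    show x * f t = f t * x
    conv_rhs => rw [h4]
    rw [inv_mul_cancel_right]
  · have : s ∈ R.comap f := h1 ▸ Subgroup.mem_top s
    exact this

end

end Cfsg.Agent.E82
end

-- part: E82/Small
section
set_option linter.all false
open scoped Cfsg.Agent.FastGrp

-- part: E82/Asm
section
/-!
# S3369: the assembly (helper92)
-/

set_option autoImplicit false
set_option maxRecDepth 100000

namespace Cfsg.Agent.E82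

open Cfsg Cfsg.Lie
open Cfsg.Agent.H939.L64 (E2)

theorem exists_sit' {G S : Type} [Group G] [Finite G] [Group S] (hc : Subgroup.center S = ⊥) (H : Subgroup G)
    (e : ↥(generalizedFittingSubgroup ↥H) ≃* S) : ∃ f : S →* G, Function.Injective f ∧ (∀ s, f s ∈ H) ∧
      (∀ h ∈ H, ∃ τ : S ≃* S, ∀ s, f (τ s) = h * f s * h⁻¹) ∧ ∀ g ∈ H, (∀ s, Commute g (f s)) → g = 1 := by
  have hN := Cfsg.Agent.Lib.GenFitting.genFitting_normal (G := ↥H)
  let f0 : S →* ↥H := (generalizedFittingSubgroup ↥H).subtype.comp e.symm.toMonoidHom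
  have hf0 : ∀ s, f0 s = ((e.symm s : ↥(generalizedFittingSubgroup ↥H)) : ↥H) := fun _ => rfl
  have hinj : Function.Injective f0 := (Subgroup.subtype_injective _).comp e.symm.injective
  refine ⟨H.subtype.comp f0, (Subgroup.subtype_injective H).comp hinj, fun s => (f0 s).2, fun h hh => ?_, fun g hg hcm => ?_⟩
  · refine ⟨(e.symm.trans (MulAut.conjNormal (⟨h, hh⟩ : ↥H))).trans e, fun s => ?_⟩
    show ((f0 (e (MulAut.conjNormal (⟨h, hh⟩ : ↥H) (e.symm s))) : ↥H) : G) = h * ((f0 s : ↥H) : G) * h⁻¹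
    rw [hf0, MulEquiv.symm_apply_apply, MulAut.conjNormal_apply, hf0]
    rfl
  · have h1 : (⟨g, hg⟩ : ↥H) ∈ generalizedFittingSubgroup ↥H := by
      apply Cfsg.Agent.Lib.GenFitting.centralizer_genFitting_le
      rw [Subgroup.mem_centralizer_iff]
      intro s hs
      have h2 := (hcm (e ⟨s, hs⟩)).eq.symm
      have h3 : (H.subtype.comp f0) (e ⟨s, hs⟩) = (s : G) := by
        show ((f0 (e ⟨s, hs⟩) : ↥H) : G) = s
        rw [hf0, MulEquiv.symm_apply_apply]
      rw [h3] at h2
      exact Subtype.ext h2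
    have hz : f0 (e ⟨_, h1⟩) = ⟨g, hg⟩ := by rw [hf0, MulEquiv.symm_apply_apply]
    have h2 : e ⟨_, h1⟩ ∈ Subgroup.center S := by
      rw [Subgroup.mem_center_iff]
      intro s
      apply hinj
      rw [map_mul, map_mul, hz]
      exact Subtype.ext (hcm s).eq.symm
    rw [hc, Subgroup.mem_bot] at h2
    rw [h2, map_one] at hz
    exact (congrArg Subtype.val hz).symm

theorem Small.center (S : Type) [Group S] (hs : Small S) : Subgroup.center S = ⊥ := by
  have := hs.simple
  rcases (inferInstance : (Subgroup.center S).Normal).eq_bot_or_eq_top with h2 | h2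
  · exact h2
  · obtain ⟨a, b, hab⟩ := hs.nonab
    have h3 : a ∈ Subgroup.center S := h2 ▸ Subgroup.mem_top a
    exact absurd (Subgroup.mem_center_iff.1 h3 b).symm hab

theorem ROW.not_coatom {S : Type} [Group S] (h : ROW S) (hs : Small S) (H : Subgroup E2)
    (e : ↥(generalizedFittingSubgroup ↥H) ≃* S) : ¬ IsCoatom H := by
  intro hco
  have : Finite E2 := inferInstance
  obtain ⟨f, h1, h2, h3, h4⟩ := exists_sit' (Small.center S hs) H e
  exact h f H ⟨hco, h1, h2, h3, h4⟩

theorem sp_mem {F K : Type*} [Field F] [Field K] (φ : F ≃+* K) {m : ℕ} (A : Matrix (Fin m ⊕ Fin m) (Fin m ⊕ Fin m) F)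
    (hA : A ∈ Matrix.symplecticGroup (Fin m) F) : φ.mapMatrix A ∈ Matrix.symplecticGroup (Fin m) K := by
  rw [SymplecticGroup.mem_iff] at hA ⊢
  have hJ : φ.mapMatrix (Matrix.J (Fin m) F) = Matrix.J (Fin m) K := by
    ext i j
    rcases i with i | i <;> rcases j with j | j <;> by_cases h : i = j <;> simp [Matrix.J, h]
  have hT : (φ.mapMatrix A).transpose = φ.mapMatrix A.transpose := rfl
  rw [← hJ, hT, ← map_mul, ← map_mul, hA]

/-- transport of the symplectic group -/
noncomputable def spMap {F K : Type*} [Field F] [Field K] (φ : F ≃+* K) (m : ℕ) :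
    ↥(Matrix.symplecticGroup (Fin m) F) ≃* ↥(Matrix.symplecticGroup (Fin m) K) where
  toFun := fun A => ⟨φ.mapMatrix A.1, sp_mem φ A.1 A.2⟩
  invFun := fun A => ⟨φ.symm.mapMatrix A.1, sp_mem φ.symm A.1 A.2⟩
  left_inv := fun A => Subtype.ext (by ext i j; simp)
  right_inv := fun A => Subtype.ext (by ext i j; simp)
  map_mul' := fun A B => Subtype.ext (map_mul φ.mapMatrix A.1 B.1)

/-- the facts on the five groups (box `E82-SMALL`) -/
def SMALL : Prop := Small Sp6 ∧ Small Sp8 ∧ Small O8 ∧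
  ∀ (F : Type) [Field F] [Fintype F], Fintype.card F = 4 → Small (U42 F) ∧ Small (Sp44 F)

/-- **the assembly** : the rows for `U₄(2)` and `Sp₄(4)` are needed for one field with four elements -/
theorem main (hs : SMALL) {F K : Type} [Field F] [Fintype F] (hF : Fintype.card F = 4) [Field K] [Fintype K]
    (hK : Fintype.card K = 4) (hU : ROW (U42 F)) (h6 : ROW Sp6) (hO : ROW O8) (h8 : ROW Sp8) (h4 : ROW (Sp44 K))
    (F₄ : Type*) [Field F₄] [Fintype F₄] (hF₄ : Fintype.card F₄ = 4)
    (H : Subgroup ↥(Cfsg.Lie.chevE8.group (ZMod 2)))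
    (hH : Nonempty (Cfsg.generalizedFittingSubgroup H ≃* Cfsg.PSU 4 F₄ 2) ∨
      Nonempty (Cfsg.generalizedFittingSubgroup H ≃* Matrix.symplecticGroup (Fin 3) (ZMod 2)) ∨
      Nonempty (Cfsg.generalizedFittingSubgroup H ≃* Cfsg.Omega (ZMod 2) (Cfsg.quadFormPlus 4 (ZMod 2))) ∨
      Nonempty (Cfsg.generalizedFittingSubgroup H ≃* Matrix.symplecticGroup (Fin 4) (ZMod 2)) ∨
      Nonempty (Cfsg.generalizedFittingSubgroup H ≃* Matrix.symplecticGroup (Fin 2) F₄)) :
    ¬ IsCoatom H := by
  obtain ⟨s6, s8, sO, s4⟩ := hs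
  rcases hH with ⟨⟨e⟩⟩ | ⟨⟨e⟩⟩ | ⟨⟨e⟩⟩ | ⟨⟨e⟩⟩ | ⟨⟨e⟩⟩
  · exact hU.not_coatom (s4 F hF).1 H (e.trans (Cfsg.Agent.ChevalleyStructure.FieldIso.PSUEquiv 4 2
      (FiniteField.ringEquivOfCardEq (hF₄.trans hF.symm))))
  · exact h6.not_coatom s6 H e
  · exact hO.not_coatom sO H e
  · exact h8.not_coatom s8 H e
  · exact h4.not_coatom (s4 K hK).2 H (e.trans (spMap (FiniteField.ringEquivOfCardEq (hF₄.trans hK.symm)) 2))

end Cfsg.Agent.E82
end

-- part: E82/Small
section
/-!
# S3369: the orders and the automorphism groups of the five groups (helper79, box `E82-SMALL`)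
-/

set_option autoImplicit false

namespace Cfsg.Agent.E82

open Cfsg

/-- a group with trivial centre is its central quotient -/
noncomputable def quoCen {S : Type} [Group S] (h : Subgroup.center S = ⊥) : S ⧸ Subgroup.center S ≃* S :=
  (QuotientGroup.quotientMulEquivOfEq h).trans QuotientGroup.quotientBot

theorem card_aut_congr {S T : Type} [Group S] [Group T] (e : S ≃* T) : Nat.card (MulAut S) = Nat.card (MulAut T) :=
  Nat.card_congr (MulAut.congr e).toEquiv

theorem nonab_of_card {S : Type} [Group S] [IsSimpleGroup S] (h : 4 ∣ Nat.card S) : ∃ a b : S, a * b ≠ b * a := by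
  by_contra hc
  push Not at hc
  have : IsMulCommutative S := ⟨⟨hc⟩⟩
  have hp : (Nat.card S).Prime := by
    let _ : CommGroup S := { (inferInstance : Group S) with mul_comm := hc }
    exact IsSimpleGroup.prime_card
  have h2 : 2 = Nat.card S := (Nat.prime_dvd_prime_iff_eq Nat.prime_two hp).1 (dvd_trans (by norm_num) h)
  rw [← h2] at h
  omega

theorem small_of {S : Type} [Group S] (hs : IsSimpleGroup S) {n k : ℕ} (hn : Nat.card S = n)
    (ha : Nat.card (MulAut S) = Nat.card S * k) (h0 : n ≠ 0) (h4 : 4 ∣ n) (h31 : ¬ 31 ∣ n * k) (h127 : ¬ 127 ∣ n * k)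
    (h24 : ¬ 2 ^ 24 ∣ n * k) : Small S where
  fin := Nat.finite_of_card_ne_zero (hn ▸ h0)
  simple := hs
  nonab := nonab_of_card (hn ▸ h4)
  h31 := by rwa [ha, hn]
  h127 := by rwa [ha, hn]
  h24 := by rwa [ha, hn]

section sp

variable {F : Type} [Field F] [Fintype F] {f : ℕ}

theorem center_sp (hF : Fintype.card F = 2 ^ f) (hf : 1 ≤ f) {m : ℕ} (hm : 1 ≤ m) :
    Subgroup.center ↥(Matrix.symplecticGroup (Fin m) F) = ⊥ := by
  have h := S0246.result hF m hm
  have h2 : Nat.gcd 2 (2 ^ f - 1) = 1 := by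
    obtain ⟨g, rfl⟩ := Nat.exists_eq_add_of_le hf
    have : 0 < 2 ^ g := by positivity
    refine (Nat.coprime_two_left.2 ?_)
    rw [pow_add, Nat.odd_iff]
    omega
  rw [h2] at h
  exact Subgroup.eq_bot_of_card_eq _ h

theorem simple_sp (hF : Fintype.card F = 2 ^ f) (hf : 1 ≤ f) {m : ℕ} (hm : 2 ≤ m) (h : m = 2 → 3 ≤ 2 ^ f) :
    IsSimpleGroup ↥(Matrix.symplecticGroup (Fin m) F) :=
  have := S0270.result (F := F) m hm (by rwa [hF])
  (quoCen (center_sp hF hf (by omega))).symm.isSimpleGroup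

theorem aut_sp (hF : Fintype.card F = 2 ^ f) (hf : 1 ≤ f) {m : ℕ} (hm : 2 ≤ m) (h : m = 2 → 3 ≤ 2 ^ f) :
    Nat.card (MulAut ↥(Matrix.symplecticGroup (Fin m) F)) =
      Nat.card ↥(Matrix.symplecticGroup (Fin m) F) * ((if m = 2 then 2 else 1) * Nat.gcd 2 (2 ^ f - 1) * f) := by
  have e := quoCen (center_sp hF hf (m := m) (by omega))
  rw [← card_aut_congr e, ← Nat.card_congr e.toEquiv, S0814.result 2 f hf hF m hm h, mul_comm]
  simp

end sp

theorem card_two : Fintype.card (ZMod 2) = 2 ^ 1 := rfl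

theorem card_Sp6 : Nat.card Sp6 = 1451520 := by
  rw [S0245.result card_two 3]
  decide

theorem card_Sp8 : Nat.card Sp8 = 47377612800 := by
  rw [S0245.result card_two 4]
  decide

theorem simple_Sp6 : IsSimpleGroup Sp6 := simple_sp card_two le_rfl (by norm_num) (by norm_num)

theorem simple_Sp8 : IsSimpleGroup Sp8 := simple_sp card_two le_rfl (by norm_num) (by norm_num)

theorem aut_Sp6 : Nat.card (MulAut Sp6) = Nat.card Sp6 * 1 := aut_sp card_two le_rfl (by norm_num) (by norm_num)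

theorem aut_Sp8 : Nat.card (MulAut Sp8) = Nat.card Sp8 * 1 := aut_sp card_two le_rfl (by norm_num) (by norm_num)

theorem small_Sp6 : Small Sp6 :=
  small_of simple_Sp6 card_Sp6 aut_Sp6 (by norm_num) (by norm_num) (by norm_num) (by norm_num) (by norm_num)

theorem small_Sp8 : Small Sp8 :=
  small_of simple_Sp8 card_Sp8 aut_Sp8 (by norm_num) (by norm_num) (by norm_num) (by norm_num) (by norm_num)

theorem out2_Sp6 : Out2 Sp6 := ⟨0, aut_Sp6⟩

theorem out2_Sp8 : Out2 Sp8 := ⟨0, aut_Sp8⟩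

theorem center_O8 : Subgroup.center O8 = ⊥ := by
  have h := LieClassical.OmegaCenter.card_center_omega_two (F := ZMod 2) (by decide)
    (LieClassical.OmegaReindex.quadPlus 4 (ZMod 2)) LieClassical.OmegaReindex.quadPlus_nondegenerate (by simp)
    (LieClassical.OmegaReindex.quadPlus_isotropic (by norm_num))
  rw [LieClassical.OmegaReindex.coe_quadPlus] at h
  exact Subgroup.eq_bot_of_card_eq _ h

theorem card_O8 : Nat.card O8 = 174182400 := by
  have h := S0293.result card_two 4 le_rfl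
  rw [Nat.card_congr (quoCen center_O8).toEquiv, show Nat.gcd 4 ((2 ^ 1) ^ 4 - 1) = 1 by decide, one_mul] at h
  rw [h]
  decide

theorem simple_O8 : IsSimpleGroup O8 :=
  have := S0296.result (F := ZMod 2) 4 le_rfl
  (quoCen center_O8).symm.isSimpleGroup

theorem aut_O8 : Nat.card (MulAut O8) = Nat.card O8 * 6 := by
  have e := quoCen center_O8
  rw [← card_aut_congr e, ← Nat.card_congr e.toEquiv, S0817.result 2 1 le_rfl card_two 4 le_rfl, mul_comm]
  simp

theorem small_O8 : Small O8 :=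
  small_of simple_O8 card_O8 aut_O8 (by norm_num) (by norm_num) (by norm_num) (by norm_num) (by norm_num)

section four

variable {F : Type} [Field F] [Fintype F]

theorem card_Sp44 (hF : Fintype.card F = 4) : Nat.card (Sp44 F) = 979200 := by
  rw [S0245.result hF 2]
  decide

theorem simple_Sp44 (hF : Fintype.card F = 4) : IsSimpleGroup (Sp44 F) :=
  simple_sp (f := 2) hF (by norm_num) le_rfl (by norm_num)

theorem aut_Sp44 (hF : Fintype.card F = 4) : Nat.card (MulAut (Sp44 F)) = Nat.card (Sp44 F) * 2 ^ 2 :=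
  aut_sp (f := 2) hF (by norm_num) le_rfl (by norm_num)

theorem small_Sp44 (hF : Fintype.card F = 4) : Small (Sp44 F) :=
  small_of (simple_Sp44 hF) (card_Sp44 hF) (aut_Sp44 hF) (by norm_num) (by norm_num) (by norm_num) (by norm_num)
    (by norm_num)

theorem out2_Sp44 (hF : Fintype.card F = 4) : Out2 (Sp44 F) := ⟨2, aut_Sp44 hF⟩

theorem card_U42 (hF : Fintype.card F = 4) : Nat.card (U42 F) = 25920 := by
  have h := S0280.result (q := 2) hF 4 (by norm_num)
  rw [show Nat.gcd 4 (2 + 1) = 1 by decide,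
    show (∏ i ∈ Finset.range 4, (if Even i then 2 ^ (i + 1) + 1 else 2 ^ (i + 1) - 1)) = 1215 by decide] at h
  show Nat.card (PSU 4 F 2) = 25920
  omega

theorem simple_U42 (hF : Fintype.card F = 4) : IsSimpleGroup (U42 F) :=
  S0283.result (q := 2) hF 4 (by norm_num) (by norm_num)

theorem aut_U42 (hF : Fintype.card F = 4) : Nat.card (MulAut (U42 F)) = Nat.card (U42 F) * 2 ^ 1 := by
  rw [S0815.result 2 1 le_rfl (q := 2) rfl hF 4 (by norm_num) (by norm_num), mul_comm]
  rfl

theorem small_U42 (hF : Fintype.card F = 4) : Small (U42 F) :=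
  small_of (simple_U42 hF) (card_U42 hF) (aut_U42 hF) (by norm_num) (by norm_num) (by norm_num) (by norm_num)
    (by norm_num)

theorem out2_U42 (hF : Fintype.card F = 4) : Out2 (U42 F) := ⟨1, aut_U42 hF⟩

end four

/-- the box `SMALL` -/
theorem small : SMALL := ⟨small_Sp6, small_Sp8, small_O8, fun _ _ _ hF => ⟨small_U42 hF, small_Sp44 hF⟩⟩

end Cfsg.Agent.E82
end

private theorem dce_4e00d30d079e : _root_.True := by
  try have : _root_.True := by simp only [_root_.Cfsg.POmega.congr_simp]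
  exact _root_.True.intro
end
end
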